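import Cfsg.Agent.Lib.J4Max.Count
import Cfsg.Agent.S5565
import Cfsg.Agent.S5572
import Cfsg.Agent.S5573
import Cfsg.Agent.Lib.JankoFour.Seven.HSide
import Cfsg.Agent.Lib.JankoFour.FiveMain

/-!
# The centraliser of the central involution is maximal

An overgroup of the centraliser has order `k` times that of the centraliser.  The Sylow congruences at three,
five and seven give `k mod 105`, and the only divisor of the index in these classes are `1` and the index.
-/

set_option autoImplicit false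
set_option linter.unusedSectionVars false
set_option maxHeartbeats 1000000
set_option linter.style.haveILetI false

namespace CfsgLib.J4Max

open Subgroup
open Cfsg (IsOfJankoFourTypeAt)

variable {G : Type*} [Group G] [Finite G] {z : G} [IsSimpleGroup G]

/-- The numbers about the centraliser. -/
theorem cent_numbers (hJ : IsOfJankoFourTypeAt z) :
    Nat.card ↥(centralizer ({z} : Set G)) = 21799895040 ∧
    (∀ S : Subgroup G, Nat.card ↥S = 7 → S ≤ centralizer ({z} : Set G) →
      Nat.card ↥(centralizer ({z} : Set G) ⊓ centralizer (S : Set G)) = 84 ∧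
      Nat.card ↥(centralizer ({z} : Set G) ⊓ normalizer (S : Set G)) = 252) ∧
    ∀ f : G, orderOf f = 5 → f ∈ centralizer ({z} : Set G) →
      Nat.card ↥(centralizer ({z} : Set G) ⊓ normalizer (zpowers f : Set G)) = 3840 := by
  obtain ⟨P, h⟩ := hJ
  obtain ⟨ι, _, q, _, π, n, M, φ, m, -, -⟩ := CfsgLib.JankoFour.exists_model_of_facts h (fun c => c.facts)
  obtain ⟨n', crd, a, f₀, u, t₀, -, R⟩ := m.core.exists_rig
  refine ⟨?_, fun S hS hle => CfsgLib.JankoFour.Seven.h_side m (CfsgLib.JankoFour.Seven.Rig.sevenFacts R) hS hle,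
    fun f hf hfz => ?_⟩
  · rw [card_eq_card_quotient_mul_card_subgroup _, R.cardK, m.cardQ]
    norm_num
  · obtain ⟨u', c⟩ := CfsgLib.JankoFour.Five.exists_ctx m m.core.fiveFacts (f := ⟨f, hfz⟩)
      (by rw [Subgroup.orderOf_mk, hf])
    exact c.card_NH

theorem orderOf_conj' {H : Type*} [Group H] (x y : H) : orderOf (x * y * x⁻¹) = orderOf y := by
  rw [← MulAut.conj_apply]; exact MulEquiv.orderOf_eq (MulAut.conj x) y

theorem orderOf_eq_two (hJ : IsOfJankoFourTypeAt z) : orderOf z = 2 := by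
  obtain ⟨P, h⟩ := hJ
  obtain ⟨ι, _, q, _, π, n, M, φ, m, -, -⟩ := CfsgLib.JankoFour.exists_model_of_facts h (fun c => c.facts)
  exact m.ordz

omit [IsSimpleGroup G] in
/-- The normaliser of the seven-subgroup is generated by the centraliser and the part centralising `z`. -/
theorem normalizer_prod {C S : Subgroup G} (hCS : Nat.card ↥(centralizer (S : Set G)) = 840)
    (h84 : Nat.card ↥(C ⊓ centralizer (S : Set G)) = 84) (h252 : Nat.card ↥(C ⊓ normalizer (S : Set G)) = 252)
    (hN : Nat.card ↥(normalizer (S : Set G)) = 2 ^ 3 * 3 ^ 2 * 5 * 7) {x : G}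
    (hx : x ∈ normalizer (S : Set G)) :
    ∃ c ∈ centralizer (S : Set G), ∃ w ∈ C ⊓ normalizer (S : Set G), c * w = x := by
  set A := centralizer (S : Set G)
  set B := C ⊓ normalizer (S : Set G)
  have hn : B ≤ normalizer (A : Set G) := fun w hw => by
    refine mem_normalizer_iff.2 fun a => ?_
    have key : ∀ v ∈ normalizer (S : Set G), ∀ a ∈ A, v * a * v⁻¹ ∈ A := fun v hv a ha =>
      mem_centralizer_iff.2 fun t ht => by
        have ht' : v⁻¹ * t * v ∈ S := by
          have := (mem_normalizer_iff.1 (inv_mem hv) t).1 ht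
          simpa using this
        have h := mem_centralizer_iff.1 ha _ ht'
        calc t * (v * a * v⁻¹) = v * ((v⁻¹ * t * v) * a) * v⁻¹ := by group
          _ = v * (a * (v⁻¹ * t * v)) * v⁻¹ := by rw [h]
          _ = v * a * v⁻¹ * t := by group
    refine ⟨key w (mem_inf.1 hw).2 a, fun h => ?_⟩
    have := key w⁻¹ (inv_mem (mem_inf.1 hw).2) _ h
    simpa [mul_assoc] using this
  have hle : A ⊔ B ≤ normalizer (S : Set G) := sup_le (centralizer_le_normalizer _) inf_le_right
  obtain ⟨j, hj⟩ := Subgroup.card_dvd_of_le (le_sup_left : A ≤ A ⊔ B)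
  have hd := Subgroup.card_dvd_of_le hle
  rw [hj, hCS, hN] at hd
  have hj3 : j ∣ 3 := Nat.dvd_of_mul_dvd_mul_left (show 0 < 840 by norm_num) (by norm_num; exact hd)
  have hsup : A ⊔ B = normalizer (S : Set G) := by
    rcases (Nat.dvd_prime Nat.prime_three).1 hj3 with rfl | rfl
    · exfalso
      have h : A = A ⊔ B := eq_of_le_of_card_ge le_sup_left (by rw [hj, hCS])
      have hBA : B ≤ C ⊓ A := le_inf inf_le_left (h ▸ le_sup_right)
      have := Subgroup.card_le_of_le hBA
      omega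
    · exact eq_of_le_of_card_ge hle (by rw [hN, hj, hCS]; norm_num)
  rw [← hsup, ← SetLike.mem_coe, coe_mul_of_right_le_normalizer_left A B hn] at hx
  obtain ⟨c, hc, w, hw, e⟩ := hx
  exact ⟨c, hc, w, hw, e⟩

/-- Products of the prime factors of the index. -/
theorem index_divisors {k : ℕ} (h : k ∣ 11 * 11 * 23 * 29 * 31 * 37 * 43)
    (h3 : k % 3 = 1) (hc : (k % 5 = 1 ∧ k % 7 = 1) ∨ (k % 5 = 2 ∧ k % 7 = 3)) :
    k = 1 ∨ k = 11 * 11 * 23 * 29 * 31 * 37 * 43 := by
  obtain ⟨k7, e7, hk7, he7, rfl⟩ := exists_dvd_and_dvd_of_dvd_mul h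
  obtain ⟨k6, e6, hk6, he6, rfl⟩ := exists_dvd_and_dvd_of_dvd_mul hk7
  obtain ⟨k5, e5, hk5, he5, rfl⟩ := exists_dvd_and_dvd_of_dvd_mul hk6
  obtain ⟨k4, e4, hk4, he4, rfl⟩ := exists_dvd_and_dvd_of_dvd_mul hk5
  obtain ⟨k3, e3, hk3, he3, rfl⟩ := exists_dvd_and_dvd_of_dvd_mul hk4
  obtain ⟨e1, e2, he1, he2, rfl⟩ := exists_dvd_and_dvd_of_dvd_mul hk3
  rcases (Nat.dvd_prime (by norm_num)).1 he1 with rfl | rfl <;>
    rcases (Nat.dvd_prime (by norm_num)).1 he2 with rfl | rfl <;>
    rcases (Nat.dvd_prime (by norm_num)).1 he3 with rfl | rfl <;>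
    rcases (Nat.dvd_prime (by norm_num)).1 he4 with rfl | rfl <;>
    rcases (Nat.dvd_prime (by norm_num)).1 he5 with rfl | rfl <;>
    rcases (Nat.dvd_prime (by norm_num)).1 he6 with rfl | rfl <;>
    rcases (Nat.dvd_prime (by norm_num)).1 he7 with rfl | rfl <;>
    omega

/-- The centraliser of such an involution is not in the alternating group. -/
theorem perm_five_odd : ∀ u : Equiv.Perm (Fin 5), u * u = 1 →
    (Finset.univ.filter fun h : Equiv.Perm (Fin 5) => h * u = u * h).card = 12 →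
    ∃ h : Equiv.Perm (Fin 5), h * u = u * h ∧ Equiv.Perm.sign h = -1 := by
  decide +kernel
/-- An element normalising the centraliser of such an involution commutes with it. -/
theorem perm_five_norm : ∀ u : Equiv.Perm (Fin 5), u * u = 1 →
    (Finset.univ.filter fun h : Equiv.Perm (Fin 5) => h * u = u * h).card = 12 →
    ∀ g : Equiv.Perm (Fin 5), g * u ≠ u * g → ∃ h : Equiv.Perm (Fin 5), h * u = u * h ∧ g * h * g⁻¹ * u ≠ u * (g * h * g⁻¹) := by
  decide +kernel

theorem residue_three {k a : ℕ} (ha : a % 3 = 1) (h : 21799895040 * k = a * 864) : k % 3 = 1 := by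
  have e : a = 25231360 * k := Nat.eq_of_mul_eq_mul_right (show 0 < 864 by decide)
    (by rw [← h, Nat.mul_right_comm])
  rw [e, Nat.mul_mod] at ha
  norm_num at ha
  exact ha

theorem residue_five {k a : ℕ} (ha : a % 5 = 1) (h : 21799895040 * k = a * 3840) : k % 5 = 1 := by
  have e : a = 5677056 * k := Nat.eq_of_mul_eq_mul_right (show 0 < 3840 by decide)
    (by rw [← h, Nat.mul_right_comm])
  rw [e, Nat.mul_mod] at ha
  norm_num at ha
  exact ha

theorem residue_five' {k a : ℕ} (ha : a % 5 = 1) (h : 21799895040 * k = a * 26880) : k % 5 = 2 := by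
  have e : a = 811008 * k := Nat.eq_of_mul_eq_mul_right (show 0 < 26880 by decide)
    (by rw [← h, Nat.mul_right_comm])
  rw [e, Nat.mul_mod] at ha
  norm_num at ha
  omega

theorem residue_seven {k a : ℕ} (ha : a % 7 = 1) (h : 21799895040 * k = a * 252) : k % 7 = 1 := by
  have e : a = 86507520 * k := Nat.eq_of_mul_eq_mul_right (show 0 < 252 by decide)
    (by rw [← h, Nat.mul_right_comm])
  rw [e, Nat.mul_mod] at ha
  norm_num at ha
  exact ha

theorem residue_seven' {k a : ℕ} (ha : a % 7 = 1) (h : 21799895040 * k = a * 2520) : k % 7 = 3 := by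
  have e : a = 8650752 * k := Nat.eq_of_mul_eq_mul_right (show 0 < 2520 by decide)
    (by rw [← h, Nat.mul_right_comm])
  rw [e, Nat.mul_mod] at ha
  norm_num at ha
  omega

/-- The subgroups above such a centraliser. -/
theorem perm_five_over {u : Equiv.Perm (Fin 5)} (hu : u * u = 1)
    (hcard : Nat.card ↥(centralizer ({u} : Set (Equiv.Perm (Fin 5)))) = 12)
    {L : Subgroup (Equiv.Perm (Fin 5))} (hL : centralizer ({u} : Set _) ≤ L) :
    L = centralizer ({u} : Set _) ∨ L = ⊤ := by
  classical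
  have hc : (Finset.univ.filter fun h : Equiv.Perm (Fin 5) => h * u = u * h).card = 12 := by
    rw [← hcard, ← Fintype.card_subtype, ← Nat.card_eq_fintype_card]
    exact Nat.card_congr (Equiv.subtypeEquivRight fun h => mem_centralizer_singleton_iff.symm)
  obtain ⟨o, ho, hos⟩ := perm_five_odd u hu hc
  have hnorm := perm_five_norm u hu hc
  have h120 : Nat.card (Equiv.Perm (Fin 5)) = 120 := by
    rw [Nat.card_perm, Nat.card_fin]; rfl
  have hd : Nat.card ↥L ∣ 120 := h120 ▸ Subgroup.card_subgroup_dvd_card L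
  have hd' : 12 ∣ Nat.card ↥L := hcard ▸ Subgroup.card_dvd_of_le hL
  obtain ⟨j, hj⟩ := hd'
  rw [hj] at hd
  have hj10 : j ∣ 10 := Nat.dvd_of_mul_dvd_mul_left (show 0 < 12 by norm_num) hd
  have hjle : j ≤ 10 := Nat.le_of_dvd (by norm_num) hj10
  interval_cases j <;> norm_num at hj10
  · exact .inl (eq_of_le_of_card_ge hL (by rw [hj, hcard])).symm
  · -- index two above the centraliser
    exfalso
    have hne : ¬ L ≤ centralizer ({u} : Set _) := fun h => by
      have := Subgroup.card_le_of_le h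
      omega
    obtain ⟨g, hgL, hg⟩ := SetLike.not_le_iff_exists.1 hne
    rw [mem_centralizer_singleton_iff] at hg
    have hi : ((centralizer ({u} : Set (Equiv.Perm (Fin 5)))).subgroupOf L).index = 2 := by
      have h := Subgroup.card_mul_index ((centralizer ({u} : Set (Equiv.Perm (Fin 5)))).subgroupOf L)
      rw [Nat.card_congr (subgroupOfEquivOfLe hL).toEquiv, hcard, hj] at h
      omega
    obtain ⟨h, hh, hh'⟩ := hnorm g hg
    refine hh' (mem_centralizer_singleton_iff.1 ?_)
    exact (Subgroup.normal_of_index_eq_two hi).conj_mem ⟨h, hL (mem_centralizer_singleton_iff.2 hh)⟩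
      (mem_subgroupOf.2 (mem_centralizer_singleton_iff.2 hh)) ⟨g, hgL⟩
  · -- index two in the symmetric group
    exfalso
    have hi : L.index = 2 := by
      have h := Subgroup.card_mul_index L
      rw [hj, h120] at h
      omega
    have hA : L = alternatingGroup (Fin 5) := Equiv.Perm.eq_alternatingGroup_of_index_eq_two hi
    have := hL (mem_centralizer_singleton_iff.2 ho)
    rw [hA, Equiv.Perm.mem_alternatingGroup, hos] at this
    exact absurd this (by decide)
  · exact .inr (eq_top_of_card_eq _ (by rw [hj, h120]))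

omit [IsSimpleGroup G] in
/-- An element of odd order normalising a subgroup of order five centralises it. -/
theorem comm_of_five {f y : G} (hf : orderOf f = 5) (hy : y ∈ normalizer (zpowers f : Set G)) (h7 : orderOf y = 7) :
    y * f = f * y := by
  set P := zpowers f
  let θ : ↥(normalizer (P : Set G)) →* MulAut ↥P := P.normalizerMonoidHom
  have hord : orderOf (⟨y, hy⟩ : ↥(normalizer (P : Set G))) = 7 := by rw [Subgroup.orderOf_mk, h7]
  have hP : Nat.card ↥P = 5 := by rw [Nat.card_zpowers, hf]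
  haveI : Fact (Nat.Prime 5) := ⟨by norm_num⟩
  haveI : IsCyclic ↥P := isCyclic_of_prime_card hP
  have h4 : Nat.card (MulAut ↥P) = 4 := by
    rw [IsCyclic.card_mulAut, hP]; rfl
  have hd : orderOf (θ ⟨y, hy⟩) ∣ Nat.gcd 7 4 :=
    Nat.dvd_gcd (hord ▸ orderOf_map_dvd θ _) (h4 ▸ orderOf_dvd_natCard _)
  have h1 : θ ⟨y, hy⟩ = 1 := orderOf_eq_one_iff.1 (Nat.dvd_one.1 (by simpa using hd))
  have := congrArg Subtype.val (DFunLike.congr_fun h1 ⟨f, mem_zpowers f⟩)
  simp [θ, Subgroup.normalizerMonoidHom] at this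
  exact mul_inv_eq_iff_eq_mul.1 this

/-- The two possibilities for the normaliser of the seven-subgroup inside an overgroup. -/
theorem seven_cases (hJ : IsOfJankoFourTypeAt z) {X : Subgroup G} (hle : centralizer ({z} : Set G) ≤ X)
    {S I : Subgroup G} (hS : Nat.card ↥S = 7) (hSC : S ≤ centralizer ({z} : Set G))
    (hI : Cfsg.IsInternalDirectProduct S I (centralizer (S : Set G))) (eI : ↥I ≃* Equiv.Perm (Fin 5))
    (hNS' : Nat.card ↥(normalizer (S : Set G)) = 2 ^ 3 * 3 ^ 2 * 5 * 7)
    (hCS : Nat.card ↥(centralizer (S : Set G)) = 840)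
    (hS84 : Nat.card ↥(centralizer ({z} : Set G) ⊓ centralizer (S : Set G)) = 84)
    (hS252 : Nat.card ↥(centralizer ({z} : Set G) ⊓ normalizer (S : Set G)) = 252) :
    Nat.card ↥(X ⊓ centralizer (S : Set G)) = 84 ∧ Nat.card ↥(X ⊓ normalizer (S : Set G)) = 252 ∨
      centralizer (S : Set G) ≤ X ∧ Nat.card ↥(X ⊓ normalizer (S : Set G)) = 2520 := by
  classical
  set C := centralizer ({z} : Set G) with hCdef
  have hSI : S ⊓ I = ⊥ := hI.2.2.2.1
  have hprod : ∀ x ∈ centralizer (S : Set G), ∃ a ∈ S, ∃ b ∈ I, a * b = x := by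
    intro x hx
    rw [← hI.2.2.2.2] at hx
    have hn : S ≤ normalizer (I : Set G) := fun a ha => by
      refine mem_normalizer_iff.2 fun y => ⟨fun hy => ?_, fun hy => ?_⟩
      · rwa [hI.2.2.1 a ha y hy, mul_inv_cancel_right]
      · have e := hI.2.2.1 a ha _ hy
        have : a * (a * y * a⁻¹) * a⁻¹ = a * y * a⁻¹ := by rw [e]; group
        have h2 : a * y * a⁻¹ = y := by
          have := congrArg (fun w => a⁻¹ * w * a) this
          simpa [mul_assoc] using this
        rwa [h2] at hy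
    rw [← SetLike.mem_coe, coe_mul_of_left_le_normalizer_right S I hn] at hx
    obtain ⟨a, ha, b, hb, e⟩ := hx
    exact ⟨a, ha, b, hb, e⟩
  -- the involution lies in the complement
  have hzI : z ∈ I := by
    obtain ⟨a, ha, b, hb, e⟩ := hprod z (mem_centralizer_iff.2 fun w hw =>
      (mem_centralizer_singleton_iff.1 (hSC hw)))
    have hz2 : z * z = 1 := by
      rw [← pow_two, ← CfsgLib.J4Max.orderOf_eq_two hJ, pow_orderOf_eq_one]
    have hab : a * b = b * a := hI.2.2.1 a ha b hb
    have h1 : a * a ∈ S ⊓ I := by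
      refine mem_inf.2 ⟨mul_mem ha ha, ?_⟩
      have : a * a * (b * b) = 1 := by
        rw [← hz2, ← e]
        calc a * a * (b * b) = a * (a * b) * b := by group
          _ = a * (b * a) * b := by rw [hab]
          _ = a * b * (a * b) := by group
      rw [eq_inv_of_mul_eq_one_left this]
      exact inv_mem (mul_mem hb hb)
    rw [hSI, mem_bot] at h1
    have hd : orderOf a ∣ Nat.gcd 2 7 := Nat.dvd_gcd (orderOf_dvd_of_pow_eq_one (by rw [pow_two, h1]))
      (hS ▸ Subgroup.orderOf_dvd_natCard S ha)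
    have ha1 : a = 1 := orderOf_eq_one_iff.1 (Nat.dvd_one.1 (by simpa using hd))
    rw [← e, ha1, one_mul]
    exact hb
  set u := eI ⟨z, hzI⟩
  have hu : u * u = 1 := by
    rw [← map_mul, ← map_one eI]
    congr 1
    exact Subtype.ext (show z * z = 1 by rw [← pow_two, ← CfsgLib.J4Max.orderOf_eq_two hJ, pow_orderOf_eq_one])
  let L : Subgroup (Equiv.Perm (Fin 5)) := (X.subgroupOf I).map eI.toMonoidHom
  have hmemL : ∀ b : ↥I, eI b ∈ L ↔ (b : G) ∈ X := fun b => by
    rw [show eI b = eI.toMonoidHom b from rfl, mem_map_iff_mem eI.injective, mem_subgroupOf]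
  have hmemC : ∀ b : ↥I, eI b ∈ centralizer ({u} : Set (Equiv.Perm (Fin 5))) ↔ (b : G) ∈ C := fun b => by
    rw [mem_centralizer_singleton_iff, mem_centralizer_singleton_iff, ← map_mul, ← map_mul, eI.apply_eq_iff_eq,
      Subtype.ext_iff]
    rfl
  have hcard12 : Nat.card ↥(centralizer ({u} : Set (Equiv.Perm (Fin 5)))) = 12 := by
    have e1 : Nat.card (↥S × {b : ↥I // (b : G) ∈ C}) = 84 := by
      rw [← hS84]
      refine Nat.card_eq_of_bijective (fun p => ⟨(p.1 : G) * ((p.2.1 : ↥I) : G),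
        mem_inf.2 ⟨mul_mem (hSC p.1.2) p.2.2, mul_mem (hI.1 p.1.2) (hI.2.1 p.2.1.2)⟩⟩) ⟨?_, ?_⟩
      · rintro ⟨a, b⟩ ⟨a', b'⟩ h
        obtain ⟨h1, h2⟩ := Prod.ext_iff.1 (Subgroup.mul_injective_of_disjoint (disjoint_iff.2 hSI)
          (a₁ := (a, b.1)) (a₂ := (a', b'.1)) (congrArg Subtype.val h))
        exact Prod.ext h1 (Subtype.ext h2)
      · rintro ⟨x, hx⟩
        obtain ⟨a, ha, b, hb, e⟩ := hprod x (mem_inf.1 hx).2
        refine ⟨⟨⟨a, ha⟩, ⟨⟨b, hb⟩, ?_⟩⟩, Subtype.ext e⟩
        have hbe : b = a⁻¹ * x := by rw [← e]; group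
        show b ∈ C
        rw [hbe]
        exact mul_mem (inv_mem (hSC ha)) (mem_inf.1 hx).1
    rw [Nat.card_prod, hS] at e1
    have e2 : Nat.card {b : ↥I // (b : G) ∈ C} = Nat.card ↥(centralizer ({u} : Set (Equiv.Perm (Fin 5)))) :=
      Nat.card_congr (eI.toEquiv.subtypeEquiv fun b => (hmemC b).symm)
    omega
  rcases perm_five_over hu hcard12 (L := L) (fun w hw => by
      obtain ⟨b, rfl⟩ := eI.surjective w
      exact (hmemL b).2 (hle ((hmemC b).1 hw))) with hL | hL
  · refine .inl ?_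
    have hXC : X ⊓ centralizer (S : Set G) = C ⊓ centralizer (S : Set G) := by
      refine le_antisymm (fun x hx => ?_) (inf_le_inf_right _ hle)
      obtain ⟨a, ha, b, hb, e⟩ := hprod x (mem_inf.1 hx).2
      have hbX : b ∈ X := by
        rw [show b = a⁻¹ * x by rw [← e]; group]
        exact mul_mem (inv_mem (hle (hSC ha))) (mem_inf.1 hx).1
      have hbC : b ∈ C := (hmemC ⟨b, hb⟩).1 (hL ▸ (hmemL ⟨b, hb⟩).2 hbX)
      exact mem_inf.2 ⟨e ▸ mul_mem (hSC ha) hbC, (mem_inf.1 hx).2⟩
    refine ⟨hXC ▸ hS84, ?_⟩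
    rw [← hS252]
    congr 2
    -- the normaliser is the product of the centraliser and the part in the centraliser of the involution
    refine le_antisymm (fun x hx => ?_) (inf_le_inf_right _ hle)
    obtain ⟨c, hc, w, hw, rfl⟩ := normalizer_prod hCS hS84 hS252 hNS' (mem_inf.1 hx).2
    have hwX : w ∈ X := hle (mem_inf.1 hw).1
    have hcC : c ∈ C := (mem_inf.1 (hXC ▸ mem_inf.2 ⟨(X.mul_mem_cancel_right hwX).1 (mem_inf.1 hx).1, hc⟩ :
      c ∈ C ⊓ centralizer (S : Set G))).1
    exact mem_inf.2 ⟨mul_mem hcC (mem_inf.1 hw).1, (mem_inf.1 hx).2⟩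
  · have hCX : centralizer (S : Set G) ≤ X := fun x hx => by
      obtain ⟨a, ha, b, hb, e⟩ := hprod x hx
      rw [← e]
      exact mul_mem (hle (hSC ha)) ((hmemL ⟨b, hb⟩).1 (hL ▸ mem_top _))
    refine .inr ⟨hCX, ?_⟩
    have hN : normalizer (S : Set G) ≤ X := fun x hx => by
      obtain ⟨c, hc, w, hw, rfl⟩ := normalizer_prod hCS hS84 hS252 hNS' hx
      exact mul_mem (hCX hc) (hle (mem_inf.1 hw).1)
    rw [inf_eq_right.2 hN, hNS']
    norm_num

/-- The centraliser of the central involution is a maximal subgroup. -/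
theorem isCoatom_centralizer (hJ : IsOfJankoFourTypeAt z) (hG : ¬ IsMulCommutative G)
    (hord : Nat.card G = 86775571046077562880) : IsCoatom (centralizer ({z} : Set G)) := by
  classical
  haveI : Fact (Nat.Prime 3) := ⟨by norm_num⟩
  haveI : Fact (Nat.Prime 5) := ⟨by norm_num⟩
  haveI : Fact (Nat.Prime 7) := ⟨by norm_num⟩
  obtain ⟨hC, hseven, hfive⟩ := cent_numbers hJ
  set C := centralizer ({z} : Set G) with hCdef
  refine ⟨fun htop => ?_, fun X hX => ?_⟩
  · rw [htop, card_top] at hC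
    omega
  have hle : C ≤ X := hX.le
  -- the subgroups of order three, five, seven
  obtain ⟨R₀⟩ := (inferInstance : Nonempty (Sylow 3 ↥C))
  have hR₀ : Nat.card ↥((R₀ : Subgroup ↥C).map C.subtype) = 27 := by
    rw [card_map_of_injective C.subtype_injective, Sylow.card_eq_multiplicity, hC,
      Nat.factorization_def _ (by norm_num), show (21799895040 : ℕ) = 3 ^ 3 * 807403520 by norm_num,
      padicValNat.mul (by norm_num) (by norm_num), padicValNat.prime_pow,
      padicValNat.eq_zero_of_not_dvd (by norm_num)]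
    norm_num
  have hf3 : (Nat.card G).factorization 3 = 3 := by
    rw [hord, Nat.factorization_def _ (by norm_num),
      show (86775571046077562880 : ℕ) = 3 ^ 3 * 3213910038743613440 by norm_num,
      padicValNat.mul (by norm_num) (by norm_num), padicValNat.prime_pow,
      padicValNat.eq_zero_of_not_dvd (by norm_num)]
  set R : Sylow 3 G := Sylow.ofCard ((R₀ : Subgroup ↥C).map C.subtype) (by rw [hR₀, hf3]; norm_num)
  have hRle : (R : Subgroup G) ≤ C := map_subtype_le _
  obtain ⟨-, -, -, hRN, hRc⟩ := Cfsg.Agent.S5565.result hG z hJ R hRle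
  obtain ⟨f, hf⟩ := exists_prime_orderOf_dvd_card' (G := ↥C) 5 (by rw [hC]; norm_num)
  obtain ⟨s, hs⟩ := exists_prime_orderOf_dvd_card' (G := ↥C) 7 (by rw [hC]; norm_num)
  have hf5 : orderOf (f : G) = 5 := by rw [Subgroup.orderOf_coe, hf]
  set P := zpowers (f : G)
  set S := zpowers (s : G)
  have hP : Nat.card ↥P = 5 := by rw [Nat.card_zpowers, hf5]
  have hS : Nat.card ↥S = 7 := by rw [Nat.card_zpowers, Subgroup.orderOf_coe, hs]
  have hPC : P ≤ C := zpowers_le.2 f.2
  have hSC : S ≤ C := zpowers_le.2 s.2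
  obtain ⟨h25, -, -, hNP⟩ := Cfsg.Agent.S5572.result hG z hJ P hP hPC
  obtain ⟨h49, ⟨I, hI, ⟨eI⟩⟩, hNS, hNS'⟩ := Cfsg.Agent.S5573.result hG z hJ S hS hSC
  obtain ⟨hS84, hS252⟩ := hseven S hS hSC
  have hP3840 := hfive f hf5 f.2
  have hCS : Nat.card ↥(centralizer (S : Set G)) = 840 := by omega
  -- the two possibilities at five
  have hXP : Nat.card ↥(X ⊓ normalizer (P : Set G)) = 3840 ∨ Nat.card ↥(X ⊓ normalizer (P : Set G)) = 26880 := by
    obtain ⟨j, hj⟩ := Subgroup.card_dvd_of_le (inf_le_inf_right (normalizer (P : Set G)) hle)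
    rw [hP3840] at hj
    have hd := Subgroup.card_dvd_of_le (inf_le_right : X ⊓ normalizer (P : Set G) ≤ normalizer (P : Set G))
    rw [hNP, hj, show (2 ^ 8 * 3 * 5 * 7 : ℕ) = 3840 * 7 by norm_num] at hd
    rcases (Nat.dvd_prime (by norm_num)).1 (Nat.dvd_of_mul_dvd_mul_left (by norm_num) hd) with rfl | rfl
    · exact .inl hj
    · exact .inr (by omega)
  have hXS := seven_cases hJ hle hS hSC hI eI hNS' hCS hS84 hS252
  -- elements of order five and seven that commute tie the two together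
  have htie : (Nat.card ↥(X ⊓ normalizer (P : Set G)) = 3840 ∧ Nat.card ↥(X ⊓ normalizer (S : Set G)) = 252) ∨
      (Nat.card ↥(X ⊓ normalizer (P : Set G)) = 26880 ∧ Nat.card ↥(X ⊓ normalizer (S : Set G)) = 2520) := by
    rcases hXS with ⟨h84, h252⟩ | ⟨hCX, h2520⟩
    · refine .inl ⟨hXP.resolve_right fun h26880 => ?_, h252⟩
      obtain ⟨y, hy⟩ := exists_prime_orderOf_dvd_card' (G := ↥(X ⊓ normalizer (P : Set G))) 7
        (by rw [h26880]; norm_num)
      have hy' : orderOf (y : G) = 7 := by rw [Subgroup.orderOf_coe, hy]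
      have hcomm := comm_of_five hf5 (mem_inf.1 y.2).2 hy'
      obtain ⟨x, hx, hconj⟩ := exists_conj_in (p := 7) (by norm_num; exact h49)
        (zpowers_le.2 (mem_inf.1 y.2).1 : zpowers (y : G) ≤ X) (hSC.trans hle)
        (by rw [Nat.card_zpowers, hy']) hS
      have h := hconj _ (mem_zpowers (y : G))
      have hgen : zpowers (x * (y : G) * x⁻¹) = S := eq_of_le_of_card_ge (zpowers_le.2 h)
        (by rw [hS, Nat.card_zpowers, orderOf_conj', hy'])
      have hmem : x * (f : G) * x⁻¹ ∈ X ⊓ centralizer (S : Set G) := by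
        refine mem_inf.2 ⟨mul_mem (mul_mem hx (hle f.2)) (inv_mem hx), mem_centralizer_iff.2 fun w hw => ?_⟩
        rw [← hgen] at hw
        obtain ⟨i, rfl⟩ := mem_zpowers_iff.1 hw
        have : Commute (x * (y : G) * x⁻¹) (x * (f : G) * x⁻¹) := by
          show _ = _
          rw [show x * (y : G) * x⁻¹ * (x * f * x⁻¹) = x * ((y : G) * f) * x⁻¹ by group, hcomm]
          group
        exact (this.zpow_left i)
      have hd := Subgroup.orderOf_dvd_natCard _ hmem
      rw [h84, orderOf_conj', hf5] at hd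
      norm_num at hd
    · refine .inr ⟨hXP.resolve_left fun h3840 => ?_, h2520⟩
      obtain ⟨e, he⟩ := exists_prime_orderOf_dvd_card' (G := ↥(centralizer (S : Set G))) 5 (by rw [hCS]; norm_num)
      have he' : orderOf (e : G) = 5 := by rw [Subgroup.orderOf_coe, he]
      obtain ⟨x, hx, hconj⟩ := exists_conj_in (p := 5) (by norm_num; exact h25)
        (zpowers_le.2 (hCX e.2) : zpowers (e : G) ≤ X) (hPC.trans hle)
        (by rw [Nat.card_zpowers, he']) hP
      have hgen : zpowers (x * (e : G) * x⁻¹) = P := eq_of_le_of_card_ge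
        (zpowers_le.2 (hconj _ (mem_zpowers (e : G)))) (by rw [hP, Nat.card_zpowers, orderOf_conj', he'])
      have hmem : x * (s : G) * x⁻¹ ∈ X ⊓ normalizer (P : Set G) := by
        refine mem_inf.2 ⟨mul_mem (mul_mem hx (hle s.2)) (inv_mem hx), centralizer_le_normalizer _ ?_⟩
        refine mem_centralizer_iff.2 fun w hw => ?_
        rw [← hgen] at hw
        obtain ⟨i, rfl⟩ := mem_zpowers_iff.1 hw
        have hc := mem_centralizer_iff.1 e.2 (s : G) (mem_zpowers (s : G))
        have : Commute (x * (e : G) * x⁻¹) (x * (s : G) * x⁻¹) := by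
          show _ = _
          rw [show x * (e : G) * x⁻¹ * (x * s * x⁻¹) = x * ((e : G) * s) * x⁻¹ by group, ← hc]
          group
        exact (this.zpow_left i)
      have hd := Subgroup.orderOf_dvd_natCard _ hmem
      rw [h3840, orderOf_conj', Subgroup.orderOf_coe, hs] at hd
      norm_num at hd
  -- the count
  obtain ⟨k, hk⟩ := Subgroup.card_dvd_of_le hle
  rw [hC] at hk
  have hkI : k ∣ 11 * 11 * 23 * 29 * 31 * 37 * 43 := by
    have h := Subgroup.card_subgroup_dvd_card X
    rw [hord, hk, show (86775571046077562880 : ℕ) = 21799895040 * (11 * 11 * 23 * 29 * 31 * 37 * 43) by norm_num] at h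
    exact Nat.dvd_of_mul_dvd_mul_left (by norm_num) h
  obtain ⟨a, ha, ha'⟩ := exists_count (p := 3) (n := 3) (by rw [hord]; norm_num) (hRle.trans hle) hR₀
  obtain ⟨b, hb, hb'⟩ := exists_count (p := 5) (n := 1) (by norm_num; exact h25) (hPC.trans hle) (by rw [hP, pow_one])
  obtain ⟨c, hc, hc'⟩ := exists_count (p := 7) (n := 1) (by norm_num; exact h49) (hSC.trans hle) (by rw [hS, pow_one])
  rw [hk] at ha' hb' hc'
  rw [show Nat.card ↥(X ⊓ normalizer ((R : Subgroup G) : Set G)) = 864 by rw [inf_eq_right.2 (hRN.trans hle), hRc]]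
    at ha'
  rcases index_divisors hkI (residue_three ha ha') (by
      rcases htie with ⟨h1, h2⟩ | ⟨h1, h2⟩ <;> rw [h1] at hb' <;> rw [h2] at hc'
      · exact .inl ⟨residue_five hb hb', residue_seven hc hc'⟩
      · exact .inr ⟨residue_five' hb hb', residue_seven' hc hc'⟩) with rfl | rfl
  · exact absurd (eq_of_le_of_card_ge hle (by omega)) hX.ne
  · exact eq_top_of_card_eq _ (by rw [hk, hord])

end CfsgLib.J4Max
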