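import Mathlib

/-!
# Counting Sylow subgroups inside an overgroup
-/

set_option autoImplicit false

namespace CfsgLib.J4Max

open Subgroup
open scoped Pointwise

variable {G : Type*} [Group G] [Finite G] {p : ℕ} [hp : Fact p.Prime] {X : Subgroup G}

/-- A subgroup of order `p ^ n` below `X`, where `p ^ (n + 1)` does not divide the order of `G`, is Sylow in `X`. -/
theorem exists_sylow_eq {n : ℕ} (hG : ¬ p ^ (n + 1) ∣ Nat.card G) {P : Subgroup G} (hP : P ≤ X)
    (hcard : Nat.card ↥P = p ^ n) : ∃ S : Sylow p ↥X, (S : Subgroup ↥X) = P.subgroupOf X := by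
  have hdvd : p ^ n ∣ Nat.card ↥X := hcard ▸ Subgroup.card_dvd_of_le hP
  have hndvd : ¬ p ^ (n + 1) ∣ Nat.card ↥X := fun h => hG (h.trans (Subgroup.card_subgroup_dvd_card X))
  have hf : (Nat.card ↥X).factorization p = n := by
    have h0 : Nat.card ↥X ≠ 0 := Nat.card_pos.ne'
    rw [hp.out.pow_dvd_iff_le_factorization h0] at hdvd hndvd
    omega
  exact ⟨Sylow.ofCard (P.subgroupOf X)
    (by rw [Nat.card_congr (subgroupOfEquivOfLe hP).toEquiv, hcard, hf]), rfl⟩

/-- Sylow's congruence inside `X`, read in `G`. -/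
theorem exists_count {n : ℕ} (hG : ¬ p ^ (n + 1) ∣ Nat.card G) {P : Subgroup G} (hP : P ≤ X)
    (hcard : Nat.card ↥P = p ^ n) :
    ∃ k : ℕ, k % p = 1 ∧ Nat.card ↥X = k * Nat.card ↥(X ⊓ normalizer (P : Set G)) := by
  obtain ⟨S, hS⟩ := exists_sylow_eq hG hP hcard
  refine ⟨Nat.card (Sylow p ↥X), ?_, ?_⟩
  · have := card_sylow_modEq_one p ↥X
    rwa [Nat.ModEq, Nat.mod_eq_of_lt hp.out.one_lt] at this
  · rw [Sylow.card_eq_index_normalizer S]
    have e : normalizer ((P.subgroupOf X : Subgroup ↥X) : Set ↥X) = (normalizer (P : Set G)).subgroupOf X := by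
      ext x
      simp only [mem_normalizer_iff, mem_subgroupOf]
      constructor
      · intro h y
        by_cases hy : y ∈ X
        · exact h ⟨y, hy⟩
        · refine ⟨fun h' => absurd (hP h') hy, fun h' => absurd ?_ hy⟩
          have := X.mul_mem (X.mul_mem (X.inv_mem x.2) (hP h')) x.2
          simpa [mul_assoc] using this
      · intro h y
        exact h y
    have hc : Nat.card ↥((normalizer (P : Set G)).subgroupOf X) = Nat.card ↥(X ⊓ normalizer (P : Set G)) := by
      rw [← inf_subgroupOf_left, Nat.card_congr (subgroupOfEquivOfLe inf_le_left).toEquiv]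
    have e' : normalizer (S : Set ↥X) = (normalizer (P : Set G)).subgroupOf X := by
      rw [← e, ← hS]; rfl
    rw [e', ← hc]
    exact (Subgroup.index_mul_card _).symm

/-- Two subgroups of order `p` inside `X` are conjugate in `X`. -/
theorem exists_conj_in (hG : ¬ p ^ 2 ∣ Nat.card G) {P Q : Subgroup G} (hP : P ≤ X) (hQ : Q ≤ X)
    (hPc : Nat.card ↥P = p) (hQc : Nat.card ↥Q = p) :
    ∃ x ∈ X, ∀ a ∈ P, x * a * x⁻¹ ∈ Q := by
  obtain ⟨S, hS⟩ := exists_sylow_eq (n := 1) hG hP (by rw [hPc, pow_one])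
  obtain ⟨T, hT⟩ := exists_sylow_eq (n := 1) hG hQ (by rw [hQc, pow_one])
  obtain ⟨x, hx⟩ := MulAction.exists_smul_eq ↥X S T
  refine ⟨x, x.2, fun a ha => ?_⟩
  have h : (MulAut.conj x • (⟨a, hP ha⟩ : ↥X)) ∈ (MulAut.conj x • (S : Subgroup ↥X)) :=
    Subgroup.smul_mem_pointwise_smul _ _ _ (by rw [hS]; exact mem_subgroupOf.2 ha)
  rw [← Sylow.pointwise_smul_def, ← Sylow.smul_def, hx, hT, mem_subgroupOf] at h
  exact h

end CfsgLib.J4Max
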