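import Cfsg.Agent.Lib.M24Cert.Suborbits

/-!
# A subgroup with the seven suborbit lengths of the rank-seven representation is maximal
-/

set_option autoImplicit false

namespace CfsgLib.J4Max

open Subgroup CfsgLib.M24Cert

/-- No proper union of suborbits with the fixed point has a length dividing the degree. -/
theorem degree_divisors : ∀ s ∈ subSums [15180, 28336, 3400320, 32643072, 54405120, 82575360],
    (1 + s) ∣ 173067389 → s = 0 ∨ 1 + s = 173067389 := by
  decide +kernel

/-- A subgroup of index 173067389 whose orbits on its cosets have these lengths is maximal. -/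
theorem isCoatom_of_rank_seven {G : Type*} [Group G] [Finite G] {N : Subgroup G} (hidx : N.index = 173067389)
    (h : ∃ c : Fin 7 → G ⧸ N, (∀ i j : Fin 7, i ≠ j → MulAction.orbit ↥N (c i) ≠ MulAction.orbit ↥N (c j)) ∧
      (∀ q : G ⧸ N, ∃ i : Fin 7, q ∈ MulAction.orbit ↥N (c i)) ∧
      (List.ofFn fun i => (MulAction.orbit ↥N (c i)).ncard) =
        [1, 15180, 28336, 3400320, 32643072, 54405120, 82575360]) :
    IsCoatom N := by
  classical
  obtain ⟨c, -, hcov, hlen⟩ := h
  set x : G ⧸ N := ((1 : G) : G ⧸ N) with hx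
  have hstab : MulAction.stabilizer G x = N := MulAction.stabilizer_quotient N
  have htop : MulAction.orbit G x = Set.univ := MulAction.orbit_eq_univ G x
  have hcard : (MulAction.orbit G x).ncard = 173067389 := by
    rw [htop, Set.ncard_univ, ← Subgroup.index_eq_card, hidx]
  have hfix : MulAction.orbit ↥N x = {x} := by
    ext y
    refine ⟨?_, fun e => by rw [Set.mem_singleton_iff.1 e]; exact MulAction.mem_orbit_self x⟩
    rintro ⟨n, rfl⟩
    exact MulAction.mem_stabilizer_iff.1 (hstab.symm ▸ n.2 : (n : G) ∈ MulAction.stabilizer G x)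
  have hlen' : (fun i => (MulAction.orbit ↥N (c i)).ncard) =
      ![1, 15180, 28336, 3400320, 32643072, 54405120, 82575360] := List.ofFn_injective (hlen.trans rfl)
  have hzero : ∀ i : Fin 7, x ∈ MulAction.orbit ↥N (c i) → i = 0 := by
    intro i hi
    have h1 : (MulAction.orbit ↥N (c i)).ncard = 1 := by
      rw [← MulAction.orbit_eq_iff.2 hi, hfix, Set.ncard_singleton]
    rw [congrFun hlen' i] at h1
    fin_cases i <;> simp at h1 ⊢
  have key : ∀ (M : Subgroup G) (hM : M = N) (y : G ⧸ N) (q : G ⧸ N),
      q ∈ MulAction.orbit ↥M y ↔ q ∈ MulAction.orbit ↥N y := by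
    rintro M rfl y q
    rfl
  rw [← hstab]
  refine isCoatom_of_suborbits x [c 1, c 2, c 3, c 4, c 5, c 6]
    [15180, 28336, 3400320, 32643072, 54405120, 82575360] ?_ (by decide) (by decide) ?_ (by rw [hcard]; norm_num)
    (by rw [hcard]; exact degree_divisors)
  · have hset : ∀ y : G ⧸ N, MulAction.orbit ↥(MulAction.stabilizer G x) y = MulAction.orbit ↥N y :=
      fun y => Set.ext fun q => key _ hstab y q
    refine Eq.trans (List.map_congr_left (g := fun y => (MulAction.orbit ↥N y).ncard)
      fun y _ => congrArg Set.ncard (hset y)) ?_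
    simp only [List.map_cons, List.map_nil, congrFun hlen' 1, congrFun hlen' 2, congrFun hlen' 3, congrFun hlen' 4,
      congrFun hlen' 5, congrFun hlen' 6]
    rfl
  · intro y _
    obtain ⟨i, hi⟩ := hcov y
    by_cases h0 : i = 0
    · obtain ⟨j, hj⟩ := hcov x
      have hj0 := hzero j hj
      subst hj0 h0
      rw [← MulAction.orbit_eq_iff.2 hj, hfix] at hi
      exact .inl hi
    · refine .inr ⟨c i, ?_, (key _ hstab _ _).2 hi⟩
      fin_cases i <;> simp_all

end CfsgLib.J4Max
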